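/-
Outer automorphisms of extraspecial 2-groups.
-/
import Cfsg.Agent.Lib.ExtraspecialTwo
import Cfsg.Agent.Lib.FiniteForms.WittBasis
import Cfsg.Prelude.Def_KGroupFacts

set_option autoImplicit false
set_option linter.style.haveILetI false

namespace CfsgExtraOut

open Matrix

abbrev F2 := ZMod 2

/-- A bilinear form with nondegenerate symmetrisation. -/
structure Form (ι : Type) [Fintype ι] [DecidableEq ι] where
  b : (ι → F2) →ₗ[F2] (ι → F2) →ₗ[F2] F2
  nd : ∀ u, (∀ v, b u v + b v u = 0) → u = 0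

variable {ι : Type} [Fintype ι] [DecidableEq ι]

/-- The central extension by a form. -/
@[ext] structure Gp (φ : Form ι) where
  v : ι → F2
  c : F2

variable {φ : Form ι}

theorem two : ∀ x : F2, x + x = 0 := by decide

theorem vtwo (v : ι → F2) : v + v = 0 := funext fun i => two (v i)

theorem eq_of_add {x y : F2} : x + y = 0 → x = y := by revert x y; decide

instance : Mul (Gp φ) := ⟨fun x y => ⟨x.v + y.v, x.c + y.c + φ.b x.v y.v⟩⟩
instance : One (Gp φ) := ⟨⟨0, 0⟩⟩
instance : Inv (Gp φ) := ⟨fun x => ⟨x.v, x.c + φ.b x.v x.v⟩⟩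

@[simp] theorem mul_v (x y : Gp φ) : (x * y).v = x.v + y.v := rfl
@[simp] theorem mul_c (x y : Gp φ) : (x * y).c = x.c + y.c + φ.b x.v y.v := rfl
@[simp] theorem one_v : (1 : Gp φ).v = 0 := rfl
@[simp] theorem one_c : (1 : Gp φ).c = 0 := rfl
@[simp] theorem inv_v (x : Gp φ) : x⁻¹.v = x.v := rfl
@[simp] theorem inv_c (x : Gp φ) : x⁻¹.c = x.c + φ.b x.v x.v := rfl

instance : Group (Gp φ) :=
  Group.ofLeftAxioms
    (fun x y z => Gp.ext (by simp [add_assoc]) (by simp; ring))
    (fun x => Gp.ext (by simp) (by simp))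
    (fun x => Gp.ext (by simp [vtwo]) (by
      simp only [mul_c, inv_c, inv_v, one_c]
      exact (by decide : ∀ c q : F2, c + q + c + q = 0) _ _))

def equivProd : Gp φ ≃ (ι → F2) × F2 where
  toFun x := (x.v, x.c)
  invFun p := ⟨p.1, p.2⟩

instance : Finite (Gp φ) := Finite.of_equiv _ (equivProd (φ := φ)).symm

/-- The central involution. -/
def zc (φ : Form ι) : Gp φ := ⟨0, 1⟩

theorem commute_iff (x y : Gp φ) : x * y = y * x ↔ φ.b x.v y.v = φ.b y.v x.v := by
  constructor
  · intro h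
    have := congrArg Gp.c h
    simp only [mul_c, add_comm x.c y.c] at this
    exact add_left_cancel this
  · intro h
    exact Gp.ext (by simp [add_comm]) (by simp [h, add_comm x.c y.c])

theorem ext2 : CfsgLib.ExtraTwo.Ext2 (Gp φ) (zc φ) where
  ne h := one_ne_zero (congrArg Gp.c h : (1 : F2) = 0)
  center_iff g := by
    constructor
    · intro hg
      have hv : g.v = 0 := φ.nd _ fun u => by
        rw [(commute_iff ⟨u, 0⟩ g).mp (Subgroup.mem_center_iff.mp hg ⟨u, 0⟩)]
        exact two _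
      rcases (show ∀ c : F2, c = 0 ∨ c = 1 by decide) g.c with h | h
      · exact Or.inl (Gp.ext hv h)
      · exact Or.inr (Gp.ext hv h)
    · rintro (rfl | rfl)
      · exact one_mem _
      · exact Subgroup.mem_center_iff.mpr fun y => (commute_iff y (zc φ)).mpr (by simp [zc])
  sq g := by
    rcases (show ∀ c : F2, c = 0 ∨ c = 1 by decide) (g * g).c with h | h
    · exact Or.inl (Gp.ext (vtwo _) h)
    · exact Or.inr (Gp.ext (vtwo _) h)

theorem card_gp (φ : Form ι) : Nat.card (Gp φ) = 2 ^ Fintype.card ι * 2 := by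
  rw [Nat.card_congr (equivProd (φ := φ)), Nat.card_prod, Nat.card_fun, Nat.card_zmod, Nat.card_eq_fintype_card]

theorem aut_z (a : MulAut (Gp φ)) : a (zc φ) = zc φ := by
  have hc : a (zc φ) ∈ Subgroup.center (Gp φ) := by
    rw [Subgroup.mem_center_iff]
    intro g
    obtain ⟨g, rfl⟩ := a.surjective g
    rw [← map_mul, ← map_mul, (ext2.z_comm g).eq]
  exact ((ext2.center_iff _).mp hc).resolve_left fun e => ext2.ne (a.injective (e.trans (map_one a).symm))

theorem split (x : Gp φ) : x = ⟨x.v, 0⟩ ∨ x = ⟨x.v, 0⟩ * zc φ := by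
  rcases (show ∀ c : F2, c = 0 ∨ c = 1 by decide) x.c with h | h
  · exact Or.inl (Gp.ext rfl h)
  · exact Or.inr (Gp.ext (by simp [zc]) (by simp [zc, h]))

theorem aut_v (a : MulAut (Gp φ)) (x : Gp φ) : (a x).v = (a ⟨x.v, 0⟩).v := by
  rcases split x with h | h
  · rw [← h]
  · conv_lhs => rw [h, map_mul, aut_z]
    simp [zc]

/-- The linear map induced by an automorphism. -/
def ind (a : MulAut (Gp φ)) : (ι → F2) →+ (ι → F2) :=
  AddMonoidHom.mk' (fun v => (a ⟨v, 0⟩).v) fun v w => by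
    rw [← mul_v, ← map_mul]
    exact (aut_v a (⟨v, 0⟩ * ⟨w, 0⟩)).symm

theorem ind_apply (a : MulAut (Gp φ)) (x : Gp φ) : ind a x.v = (a x).v := (aut_v a x).symm

theorem ind_mul (a b : MulAut (Gp φ)) (v : ι → F2) : ind (a * b) v = ind a (ind b v) := by
  show (a (b ⟨v, 0⟩)).v = _
  rw [← ind_apply]
  rfl

theorem ind_q (a : MulAut (Gp φ)) (v : ι → F2) : φ.b (ind a v) (ind a v) = φ.b v v := by
  have h : a (⟨v, 0⟩ * ⟨v, 0⟩) = a ⟨v, 0⟩ * a ⟨v, 0⟩ := map_mul _ _ _
  have hv : ∀ w : Gp φ, (w * w).c = φ.b w.v w.v := fun w => by simp [two]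
  rcases ext2.sq (⟨v, 0⟩ : Gp φ) with e | e
  · have h1 := congrArg Gp.c e
    rw [hv] at h1
    have h2 := congrArg Gp.c h
    rw [e, map_one, hv] at h2
    exact h2.symm.trans h1.symm
  · have h1 := congrArg Gp.c e
    rw [hv] at h1
    have h2 := congrArg Gp.c h
    rw [e, aut_z, hv] at h2
    exact h2.symm.trans h1.symm

/-- The matrix of an automorphism. -/
noncomputable def mat (a : MulAut (Gp φ)) : Matrix ι ι F2 := LinearMap.toMatrix' ((ind a).toZModLinearMap 2)

theorem mat_mulVec (a : MulAut (Gp φ)) (v : ι → F2) : mat a *ᵥ v = ind a v := by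
  rw [show mat a *ᵥ v = Matrix.toLin' (mat a) v from (Matrix.toLin'_apply _ _).symm, mat, Matrix.toLin'_toMatrix']
  rfl

theorem mat_mul (a b : MulAut (Gp φ)) : mat (a * b) = mat a * mat b :=
  Matrix.ext_of_mulVec_single fun i => by rw [← Matrix.mulVec_mulVec, mat_mulVec, mat_mulVec, mat_mulVec, ind_mul]

theorem mat_one : mat (1 : MulAut (Gp φ)) = 1 :=
  Matrix.ext_of_mulVec_single fun i => by rw [mat_mulVec, Matrix.one_mulVec]; rfl

variable {q : (ι → F2) → F2}

/-- The action on the quotient by the centre. -/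
noncomputable def toIso (hq : ∀ v, φ.b v v = q v) : MulAut (Gp φ) →* Cfsg.isometryGroup F2 q where
  toFun a := ⟨⟨mat a, mat a⁻¹, by rw [← mat_mul, mul_inv_cancel, mat_one], by rw [← mat_mul, inv_mul_cancel, mat_one]⟩,
    fun u _ => by show q (mat a *ᵥ u) = q u; rw [mat_mulVec, ← hq, ind_q, hq]⟩
  map_one' := Subtype.ext (Units.ext mat_one)
  map_mul' a b := Subtype.ext (Units.ext (mat_mul a b))

theorem toIso_surjective (hq : ∀ v, φ.b v v = q v) : Function.Surjective (toIso hq) := by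
  classical
  rintro ⟨T, hT⟩
  let L : (ι → F2) →ₗ[F2] (ι → F2) := Matrix.toLin' (T : Matrix ι ι F2)
  let δ : (ι → F2) →ₗ[F2] (ι → F2) →ₗ[F2] F2 := φ.b.compl₁₂ L L - φ.b
  have hδ : ∀ u, δ u u = 0 := fun u => by
    have h : q ((T : Matrix ι ι F2) *ᵥ u) = q u := hT u u
    simp [δ, L, hq, h]
  have hδs : ∀ u w, δ u w = δ w u := fun u w => by
    have := hδ (u + w)
    simp only [map_add, LinearMap.add_apply, hδ, zero_add, add_zero] at this
    exact (eq_of_add this).symm
  let r := Fintype.equivFin ι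
  let s : ι → ι → F2 := fun i j => if r i < r j then δ (Pi.single i 1) (Pi.single j 1) else 0
  have hss : ∀ i j, s i j + s j i = δ (Pi.single i 1) (Pi.single j 1) := by
    intro i j
    rcases lt_trichotomy (r i) (r j) with h | h | h
    · simp [s, h, h.not_gt]
    · have : i = j := r.injective h
      subst this
      simp [s, hδ]
    · simp [s, h, h.not_gt, hδs (Pi.single i 1)]
  let γ : (ι → F2) → F2 := fun v => ∑ i, ∑ j, v i * v j * s i j
  have hexp : ∀ u w, δ u w = ∑ i, ∑ j, u i * w j * δ (Pi.single i 1) (Pi.single j 1) := by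
    intro u w
    conv_lhs => rw [pi_eq_sum_univ' u, pi_eq_sum_univ' w]
    simp only [map_sum, LinearMap.sum_apply, map_smul, LinearMap.smul_apply, smul_eq_mul, Finset.mul_sum]
    rw [Finset.sum_comm]
    exact Finset.sum_congr rfl fun i _ => Finset.sum_congr rfl fun j _ => by ring
  have hγ : ∀ u w, γ (u + w) = γ u + γ w + δ u w := by
    intro u w
    have hswap : (∑ i, ∑ j, w i * u j * s i j) = ∑ i, ∑ j, u i * w j * s j i := by
      rw [Finset.sum_comm]; exact Finset.sum_congr rfl fun i _ => Finset.sum_congr rfl fun j _ => by ring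
    rw [hexp]
    simp only [γ, Pi.add_apply, ← hss, mul_add, add_mul, Finset.sum_add_distrib, hswap]
    ring
  let f : Gp φ →* Gp φ := MonoidHom.mk' (fun x => ⟨L x.v, x.c + γ x.v⟩) fun x y => by
    refine Gp.ext (by simp) ?_
    simp only [mul_c, mul_v, hγ]
    simp [δ]
    ring
  have hf : Function.Bijective f := by
    refine Finite.injective_iff_bijective.mp ((injective_iff_map_eq_one f).mpr fun x hx => ?_)
    have h1 : L x.v = 0 := congrArg Gp.v hx
    have h2 : x.c + γ x.v = 0 := congrArg Gp.c hx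
    have hv : x.v = 0 := by
      have := congrArg (fun t => ((T⁻¹ : Matrix.GeneralLinearGroup ι F2) : Matrix ι ι F2) *ᵥ t) h1
      simp only [L, Matrix.toLin'_apply, Matrix.mulVec_mulVec, Matrix.mulVec_zero, ← Units.val_mul, inv_mul_cancel,
        Units.val_one, Matrix.one_mulVec] at this
      exact this
    refine Gp.ext hv ?_
    rw [hv] at h2
    simpa [γ] using h2
  refine ⟨MulEquiv.ofBijective f hf, Subtype.ext (Units.ext (Matrix.ext_of_mulVec_single fun i => ?_))⟩
  show mat (MulEquiv.ofBijective f hf) *ᵥ _ = _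
  rw [mat_mulVec]
  rfl

theorem toIso_ker (hq : ∀ v, φ.b v v = q v) : (toIso hq).ker = Cfsg.Inn (Gp φ) := by
  classical
  refine le_antisymm (fun a ha => ?_) ?_
  · have hid : ∀ x : Gp φ, (a x).v = x.v := fun x => by
      have h : mat a = 1 := congrArg (fun t : Cfsg.isometryGroup F2 q => ((t : Matrix.GeneralLinearGroup ι F2) : Matrix ι ι F2)) ha
      rw [← ind_apply, ← mat_mulVec, h, Matrix.one_mulVec]
    let lam : (ι → F2) →+ F2 := AddMonoidHom.mk' (fun v => (a ⟨v, 0⟩).c) fun v w => by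
      have h := congrArg Gp.c (map_mul a (⟨v, 0⟩ : Gp φ) ⟨w, 0⟩)
      rw [mul_c, hid, hid] at h
      have e : (⟨v, 0⟩ * ⟨w, 0⟩ : Gp φ) = ⟨v + w, 0⟩ ∨ (⟨v, 0⟩ * ⟨w, 0⟩ : Gp φ) = ⟨v + w, 0⟩ * zc φ := split _
      rcases e with e | e
      · rw [e] at h
        have h0 : φ.b v w = 0 := by simpa using congrArg Gp.c e
        simpa [h0] using h
      · rw [e, map_mul, aut_z, mul_c, hid] at h
        have h0 : φ.b v w = 1 := by simpa [zc] using congrArg Gp.c e
        simp [zc, h0] at h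
        exact h
    let θ : (ι → F2) →ₗ[F2] ((ι → F2) →ₗ[F2] F2) := φ.b + φ.b.flip
    have hθ : Function.Surjective θ := by
      refine (LinearMap.injective_iff_surjective_of_finrank_eq_finrank ?_).mp ?_
      · exact (Subspace.dual_finrank_eq (K := F2) (V := ι → F2)).symm
      · refine (injective_iff_map_eq_zero θ).mpr fun u hu => φ.nd u fun v => ?_
        simpa [θ] using LinearMap.congr_fun hu v
    obtain ⟨w, hw⟩ := hθ (lam.toZModLinearMap 2)
    refine ⟨⟨w, 0⟩, MulEquiv.ext fun x => ?_⟩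
    have hw' : φ.b w x.v + φ.b x.v w = (a ⟨x.v, 0⟩).c := by
      have h := LinearMap.congr_fun hw x.v
      simp [θ] at h
      exact h
    refine Gp.ext ?_ ?_
    · rw [hid]
      simp only [MulAut.conj_apply, mul_v, inv_v]
      rw [add_comm w x.v, add_assoc, vtwo, add_zero]
    · have hac : (a x).c = x.c + (a ⟨x.v, 0⟩).c := by
        rcases (show ∀ c : F2, c = 0 ∨ c = 1 by decide) x.c with h | h
        · rw [h, zero_add, show x = ⟨x.v, 0⟩ from Gp.ext rfl h]
        · rw [show x = ⟨x.v, 0⟩ * zc φ from Gp.ext (by simp [zc]) (by simp [zc, h]), map_mul, aut_z]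
          simp [zc, add_comm]
      rw [hac, ← hw']
      simp only [MulAut.conj_apply, mul_c, inv_c, mul_v, inv_v, map_add, LinearMap.add_apply]
      exact (by decide : ∀ c p r s : F2, 0 + c + p + (0 + r) + (r + s) = c + (p + s)) _ _ _ _
  · rintro _ ⟨g, rfl⟩
    refine Subtype.ext (Units.ext (Matrix.ext_of_mulVec_single fun i => ?_))
    show mat _ *ᵥ _ = (1 : Matrix ι ι F2) *ᵥ _
    rw [mat_mulVec, Matrix.one_mulVec]
    show (g * (⟨Pi.single i 1, 0⟩ : Gp φ) * g⁻¹).v = _
    simp only [mul_v, inv_v]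
    rw [add_comm g.v, add_assoc, vtwo, add_zero]

/-- `Out` of the model is the orthogonal group. -/
theorem out_model (hq : ∀ v, φ.b v v = q v) : Nonempty (Cfsg.Out (Gp φ) ≃* Cfsg.isometryGroup F2 q) :=
  ⟨(QuotientGroup.quotientMulEquivOfEq (toIso_ker hq).symm).trans
    (QuotientGroup.quotientKerEquivOfSurjective _ (toIso_surjective hq))⟩

theorem out_congr {E E' : Type*} [Group E] [Group E'] (e : E ≃* E') : Nonempty (Cfsg.Out E ≃* Cfsg.Out E') :=
  ⟨QuotientGroup.congr _ _ (MulAut.congr e) (by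
    rw [Cfsg.Inn, Cfsg.Inn, MonoidHom.map_range]
    ext a
    constructor
    · rintro ⟨x, rfl⟩
      exact ⟨e x, MulEquiv.ext fun y => by simp [MulAut.congr]⟩
    · rintro ⟨y, rfl⟩
      exact ⟨e.symm y, MulEquiv.ext fun w => by simp [MulAut.congr]⟩)⟩

/-- The bilinear form for the plus type. -/
def plusB (m : ℕ) : Form (Fin m ⊕ Fin m) where
  b := LinearMap.mk₂ F2 (fun u v => ∑ i, u (.inl i) * v (.inr i))
    (fun u u' v => by simp [add_mul, Finset.sum_add_distrib])
    (fun c u v => by simp [Finset.mul_sum, mul_assoc])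
    (fun u v v' => by simp [mul_add, Finset.sum_add_distrib])
    (fun c u v => by simp [Finset.mul_sum, mul_left_comm])
  nd u h := funext fun k => by
    rcases k with i | i
    · simpa [Pi.single_apply] using h (Pi.single (Sum.inr i) 1)
    · simpa [Pi.single_apply] using h (Pi.single (Sum.inl i) 1)

/-- The bilinear form for the minus type. -/
def minusB (m : ℕ) : Form ((Fin m ⊕ Fin m) ⊕ Fin 2) where
  b := LinearMap.mk₂ F2 (fun u v => (∑ i, u (.inl (.inl i)) * v (.inl (.inr i))) +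
      (u (.inr 0) * v (.inr 0) + u (.inr 0) * v (.inr 1) + u (.inr 1) * v (.inr 1)))
    (fun u u' v => by simp [add_mul, Finset.sum_add_distrib]; ring)
    (fun c u v => by
      simp only [Pi.smul_apply, smul_eq_mul, mul_add, Finset.mul_sum]
      refine congrArg₂ (· + ·) (Finset.sum_congr rfl fun i _ => by ring) (by ring))
    (fun u v v' => by simp [mul_add, Finset.sum_add_distrib]; ring)
    (fun c u v => by
      simp only [Pi.smul_apply, smul_eq_mul, mul_add, Finset.mul_sum]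
      refine congrArg₂ (· + ·) (Finset.sum_congr rfl fun i _ => by ring) (by ring))
  nd u h := funext fun k => by
    rcases k with (i | i) | k
    · simpa [Pi.single_apply] using h (Pi.single (Sum.inl (Sum.inr i)) 1)
    · simpa [Pi.single_apply] using h (Pi.single (Sum.inl (Sum.inl i)) 1)
    · have h0 := h (Pi.single (Sum.inr 0) 1)
      have h1 := h (Pi.single (Sum.inr 1) 1)
      simp [Pi.single_apply] at h0 h1
      revert h0 h1
      obtain rfl | rfl : k = 0 ∨ k = 1 := by omega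
      · show _ → _ → u (Sum.inr 0) = (0 : F2)
        generalize u (Sum.inr 0) = a; generalize u (Sum.inr 1) = b; revert a b; decide
      · show _ → _ → u (Sum.inr 1) = (0 : F2)
        generalize u (Sum.inr 0) = a; generalize u (Sum.inr 1) = b; revert a b; decide

theorem plusB_q (m : ℕ) (v) : (plusB m).b v v = Cfsg.quadFormPlus m F2 v := rfl

theorem minusB_q (m : ℕ) (v) : (minusB m).b v v = Cfsg.quadFormMinus m F2 1 1 v := by
  simp [minusB, Cfsg.quadFormMinus, pow_two]

theorem gp_plus_elem (m : ℕ) : ∃ A : Subgroup (Gp (plusB m)), IsMulCommutative A ∧ (∀ a ∈ A, a ^ 2 = 1) ∧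
    Nat.card A = 2 ^ (m + 1) := by
  classical
  let A : Subgroup (Gp (plusB m)) :=
    { carrier := {x | ∀ i, x.v (.inr i) = 0}
      one_mem' := fun i => rfl
      mul_mem' := fun {x y} hx hy i => by simp [hx i, hy i]
      inv_mem' := fun {x} hx i => hx i }
  have hb : ∀ x ∈ A, ∀ y ∈ A, (plusB m).b x.v y.v = 0 := fun x hx y hy => by
    show ∑ i, x.v (.inl i) * y.v (.inr i) = 0
    exact Finset.sum_eq_zero fun i _ => by rw [hy i, mul_zero]
  refine ⟨A, ⟨⟨fun x y => Subtype.ext ((commute_iff _ _).mpr (by rw [hb _ x.2 _ y.2, hb _ y.2 _ x.2]))⟩⟩, fun a ha => ?_, ?_⟩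
  · rw [pow_two]
    exact Gp.ext (vtwo _) (by simp [hb _ ha _ ha, two])
  · rw [Nat.card_congr (show A ≃ (Fin m → F2) × F2 from
      { toFun := fun x => (fun i => x.1.v (.inl i), x.1.c)
        invFun := fun p => ⟨⟨Sum.elim p.1 0, p.2⟩, fun i => rfl⟩
        left_inv := fun x => Subtype.ext (Gp.ext (funext fun k => by rcases k with i | i <;> simp [x.2 _]) rfl)
        right_inv := fun p => rfl }), Nat.card_prod, Nat.card_fun, Nat.card_zmod, Nat.card_fin, pow_succ]

theorem gp_minus_elem (m : ℕ) (A : Subgroup (Gp (minusB m))) (hA : ∀ a ∈ A, a ^ 2 = 1) :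
    Nat.card A ≤ 2 ^ (m + 1) := by
  classical
  let P : AddSubgroup ((Fin m ⊕ Fin m) ⊕ Fin 2 → F2) :=
    { carrier := {v | ∃ a ∈ A, a.v = v}
      zero_mem' := ⟨1, A.one_mem, rfl⟩
      add_mem' := fun {u v} ⟨a, ha, ea⟩ ⟨b, hb, eb⟩ => ⟨a * b, A.mul_mem ha hb, by rw [mul_v, ea, eb]⟩
      neg_mem' := fun {v} ⟨a, ha, ea⟩ => ⟨a, ha, ea.trans (funext fun i => (ZMod.neg_eq_self_mod_two (v i)).symm)⟩ }
  let U : Submodule F2 ((Fin m ⊕ Fin m) ⊕ Fin 2 → F2) := P.toZModSubmodule 2
  have hU : ∀ v, v ∈ U ↔ ∃ a ∈ A, a.v = v := fun v => Iff.rfl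
  have hfin : Module.finrank F2 U ≤ m := by
    refine CfsgLib.FiniteForms.minus_totally_singular_le (a := (1 : F2)) (b := 1) (by decide) U fun u hu => ?_
    obtain ⟨a, ha, rfl⟩ := (hU u).mp hu
    have := congrArg Gp.c (hA a ha)
    rw [pow_two, mul_c, two, zero_add, one_c] at this
    rw [← minusB_q]; exact this
  have hcard : Nat.card A ≤ Nat.card U * 2 := by
    refine le_trans (Nat.card_le_card_of_injective (fun a : A => ((⟨a.1.v, (hU _).mpr ⟨a, a.2, rfl⟩⟩ : U), a.1.c)) fun a b e => ?_) (le_of_eq (by rw [Nat.card_prod, Nat.card_zmod]))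
    exact Subtype.ext (Gp.ext (congrArg Subtype.val (congrArg Prod.fst e)) (congrArg Prod.snd e :))
  have h2 : Nat.card U ≤ 2 ^ m := by
    rw [Module.natCard_eq_pow_finrank (K := F2) (V := U), Nat.card_zmod]
    exact Nat.pow_le_pow_right two_pos hfin
  rw [pow_succ]; omega

theorem rootCount_minus {E : Type*} [Group E] [Finite E] {z : E} (h : CfsgLib.ExtraTwo.Ext2 E z) {n : ℕ}
    (hn : Nat.card E = 2 ^ (2 * n + 1))
    (hno : ¬ ∃ A : Subgroup E, IsMulCommutative A ∧ (∀ a ∈ A, a ^ 2 = 1) ∧ Nat.card A = 2 ^ (n + 1)) :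
    CfsgLib.ExtraTwo.rootCount E + 2 ^ n = 2 ^ (2 * n) := by
  obtain ⟨k, hk, hc⟩ := CfsgLib.ExtraTwo.invariants _ E z rfl h
  obtain rfl : k = n := by
    have := Nat.pow_right_injective le_rfl (hn.symm.trans hk)
    omega
  rcases hc with ⟨-, A, hA, hA2, hle⟩ | ⟨-, hr, -⟩
  · exact absurd ⟨A, hA, hA2, le_antisymm (CfsgLib.ExtraTwo.card_elementary_le h hn hA hA2).1 hle⟩ hno
  · exact hr

theorem out_extraspecial {E : Type*} [Group E] [Finite E] (hE : Cfsg.IsExtraspecial 2 E) (n : ℕ) (hn : 1 ≤ n)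
    (hcard : Nat.card E = 2 ^ (2 * n + 1)) :
    ((∃ A : Subgroup E, Cfsg.IsElementaryAbelian 2 A ∧ Nat.card ↥A = 2 ^ (n + 1)) →
      Nonempty (Cfsg.Out E ≃* Cfsg.isometryGroup (ZMod 2) (Cfsg.quadFormPlus n (ZMod 2)))) ∧
    ((¬ ∃ A : Subgroup E, Cfsg.IsElementaryAbelian 2 A ∧ Nat.card ↥A = 2 ^ (n + 1)) →
      Nonempty (Cfsg.Out E ≃* Cfsg.isometryGroup (ZMod 2) (Cfsg.quadFormMinus (n - 1) (ZMod 2) 1 1))) := by
  obtain ⟨z, h⟩ := CfsgLib.ExtraTwo.ofExtraspecial hE
  constructor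
  · rintro ⟨A, ⟨hA, hA2⟩, hAc⟩
    have hc' : Nat.card (Gp (plusB n)) = 2 ^ (2 * n + 1) := by
      rw [card_gp, Fintype.card_sum, Fintype.card_fin, ← pow_succ]; congr 1; ring
    obtain ⟨B, hB, hB2, hBc⟩ := gp_plus_elem n
    have hr := (CfsgLib.ExtraTwo.card_elementary_le h hcard hA hA2).2 hAc
    have hr' := (CfsgLib.ExtraTwo.card_elementary_le (ext2 (φ := plusB n)) hc' hB hB2).2 hBc
    obtain ⟨e⟩ := CfsgLib.ExtraTwo.nonempty_equiv _ E (Gp (plusB n)) z _ hcard hc' h ext2 (hr.trans hr'.symm)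
    obtain ⟨e1⟩ := out_congr e
    obtain ⟨e2⟩ := out_model (φ := plusB n) (q := Cfsg.quadFormPlus n F2) (plusB_q n)
    exact ⟨e1.trans e2⟩
  · intro hno
    obtain ⟨m, rfl⟩ : ∃ m, n = m + 1 := ⟨n - 1, by omega⟩
    rw [Nat.add_sub_cancel]
    have hc' : Nat.card (Gp (minusB m)) = 2 ^ (2 * (m + 1) + 1) := by
      rw [card_gp, Fintype.card_sum, Fintype.card_sum, Fintype.card_fin, Fintype.card_fin, ← pow_succ]; congr 1; ring
    have hr := rootCount_minus h hcard fun ⟨A, hA, hA2, hAc⟩ => hno ⟨A, ⟨hA, hA2⟩, hAc⟩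
    have hr' := rootCount_minus (ext2 (φ := minusB m)) hc' fun ⟨A, _, hA2, hAc⟩ => by
      have := gp_minus_elem m A hA2
      rw [hAc, pow_succ] at this
      have := Nat.pos_of_ne_zero (pow_ne_zero (m + 1) (two_ne_zero (α := ℕ)))
      omega
    obtain ⟨e⟩ := CfsgLib.ExtraTwo.nonempty_equiv _ E (Gp (minusB m)) z _ hcard hc' h ext2 (by omega)
    obtain ⟨e1⟩ := out_congr e
    obtain ⟨e2⟩ := out_model (φ := minusB m) (q := Cfsg.quadFormMinus m F2 1 1) (minusB_q m)
    exact ⟨e1.trans e2⟩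

end CfsgExtraOut
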